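import Cfsg.Agent.H485.Frame
import Cfsg.Agent.H851.SimsRgd
import Cfsg.Agent.KFacts.RgdBorelTits
import Cfsg.Agent.Nodes.CardSup_m3
import Cfsg.Agent.KFacts.RgdFixU
import Cfsg.Agent.H160.PD.Crit
import Cfsg.Agent.H934.RowTwD4
import Cfsg.Agent.H69.OutTwD4
import Cfsg.Agent.KFacts.RgdFiltTwAll
import Cfsg.Agent.H115.HC.TwoLin
import Cfsg.Agent.H35.ExcIdxTw_m3
import Cfsg.Agent.FastGrp
import Cfsg.Agent.Prune
set_option linter.all false
prune_inst 0x7f00000000000000000000000000000000000000000000000000000000000000000000000000000000000000000000000000000000000000000000000000000000000000000000000000000000000000003fffffffffffffffffffffffffffbeffbdffffffff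
open scoped Cfsg.Agent.FastGrp

-- part: H699/PD/Rgd
section
/-!
# S4246: fixed points of automorphisms of order prime to `p` of a group with a root group datum (helper699)

* `exists_small` : `|U : U ∩ U^s| ≥ |X (sr i)|` for some `i` if `s ∉ B`;
* `exists_frame_fix` : an automorphism `α` of order prime to `p` fixing pointwise a `p`-group `R'` with
  `|U : R'| < |X (sr i)|` for all `i` fixes a frame, and `R'` lies in `U` (up to conjugation);
* `card_mul_le` : `|R'| |X (sr i)| ≤ |U| |C_{X (sr i)}(β)|`.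
-/

set_option autoImplicit false
set_option linter.unusedSectionVars false

open scoped Pointwise

namespace Cfsg.Agent.H699.PD

open CoxeterSystem Cfsg.Agent.ChevalleyStructure.CoxeterGeom Cfsg.Agent.Tits.Roots Cfsg.Agent.Tits.Core
  Cfsg.Agent.Tits.Exchange Cfsg.Agent.Nodes.Reps Cfsg.Agent.Nodes.BNOf Cfsg.Agent.Nodes.StabComb
  Cfsg.Agent.Nodes.Bruhat Cfsg.Agent.Nodes.OppDec Cfsg.Agent.Nodes.LeviDec Cfsg.Agent.Nodes.NormalForm
  Cfsg.Agent.KFacts.RgdOpp Cfsg.Agent.KFacts.RgdAut Cfsg.Agent.KFacts.RgdDiag Cfsg.Agent.KFacts.RgdRigid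
  Cfsg.Agent.Solvable.Glauberman Cfsg.Agent.H485.Frame

variable {I W Y : Type*} [Fintype I] [DecidableEq I] [Group W] [Group Y] {M : CoxeterMatrix I}
  {cs : CoxeterSystem M W} {A : I → I → ℤ} {h : IsCartan M A} {p : ℕ} {T : Subgroup Y} {n : I → Y}
  {X : (I → ℤ) → Subgroup Y} (R : RGD cs h p T n X)

theorem relIndex_cj (g : Y) (A B : Subgroup Y) : (cj g A).relIndex (cj g B) = A.relIndex B := by
  unfold cj
  rw [← Subgroup.relIndex_comap, Subgroup.comap_map_eq_self_of_injective (MulAut.conj g).injective]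

include R

/-- `|U : U ∩ U^s| ≥ |X (sr i)|` for some `i` if `s ∉ B`. -/
theorem exists_small [Finite W] [Finite Y] (hG : GG cs h T X = ⊤) {s : Y} (hs : s ∉ RGD.B cs h T X) :
    ∃ i, Nat.card ↥(X (sr i)) ≤
      (cj s (RGD.Sup X (RGD.Pos cs h))).relIndex (RGD.Sup X (RGD.Pos cs h)) := by
  set U := RGD.Sup X (RGD.Pos cs h) with hU
  obtain ⟨w, b₁, hb₁, k, hk, b₂, hb₂, e⟩ := (mem_GG R).1 (show s ∈ GG cs h T X by rw [hG]; trivial)
  have hBU : ∀ b ∈ RGD.B cs h T X, cj b U = U := fun b hb => mem_normalizer_iff_cj.1 (R.B_le_normalizer_U hb)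
  have hw1 : w ≠ 1 := by
    rintro rfl
    apply hs
    rw [e]
    exact mul_mem (mul_mem hb₁ (RGD.T_le_B hk.mem_of_one)) hb₂
  obtain ⟨i, hi⟩ : ∃ i, cs.IsLeftDescent w i := cs.exists_leftDescent_of_ne_one hw1
  have hneg : rep cs h w⁻¹ (sr i) ≤ 0 := by
    refine nonpos_of_lt cs h w⁻¹ i ?_
    rw [cs.length_inv, ← cs.length_inv (w⁻¹ * cs.simple i), mul_inv_rev, inv_inv, cs.inv_simple]
    exact hi
  have hroot := (isRoot_sr cs h i).act w⁻¹
  refine ⟨i, ?_⟩
  have hinf : X (sr i) ⊓ cj k U = ⊥ := by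
    rw [Subgroup.eq_bot_iff_forall]
    rintro x ⟨hx1, hx2⟩
    have h1 : k⁻¹ * x * k ∈ X (rep cs h w⁻¹ (sr i)) := R.conj_mem' hk (isRoot_sr cs h i) hx1
    have h3 := eq_one_of_mem_U_of_mem_BN R (mem_cj.1 hx2) (X_le_BN hroot hneg h1)
    have h4 : x = k * (k⁻¹ * x * k) * k⁻¹ := by group
    rw [h4, h3]; group
  have h1 : (cj s U).relIndex U = (cj k U).relIndex U := by
    rw [e, cj_mul, cj_mul, hBU b₂ hb₂]
    conv_lhs => rw [← hBU b₁ hb₁]
    rw [hBU b₁ hb₁]
    conv_lhs => rw [show (cj b₁ (cj k U)).relIndex U = (cj b₁ (cj k U)).relIndex (cj b₁ U) by rw [hBU b₁ hb₁]]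
    rw [relIndex_cj]
  have hXU : X (sr i) ≤ U := RGD.le_Sup (S := RGD.Pos cs h) ⟨isRoot_sr cs h i, sr_nonneg i⟩
  have h2 : (cj k U).relIndex (X (sr i)) ≤ (cj k U).relIndex U :=
    Subgroup.relIndex_le_of_le_right hXU Subgroup.index_ne_zero_of_finite
  rw [← Subgroup.inf_relIndex_left, hinf, Subgroup.relIndex_bot_left] at h2
  rw [h1]
  exact h2

/-- An automorphism of order prime to `p` fixing `U` fixes some opposite `U⁻`. -/
theorem exists_opp [Finite W] [Finite Y] [Fact p.Prime] (hG : GG cs h T X = ⊤) {α : MulAut Y}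
    (hα : (orderOf α).Coprime p) (hU : _root_.Cfsg.Agent.KFacts.RgdAut.Fix α (RGD.Sup X (RGD.Pos cs h))) :
    ∃ u ∈ RGD.Sup X (RGD.Pos cs h), _root_.Cfsg.Agent.KFacts.RgdAut.Fix α (cj u (UN cs h X)) := by
  have : Finite (MulAut Y) := inferInstance
  set U := RGD.Sup X (RGD.Pos cs h) with hUdef
  set A := Subgroup.zpowers α with hA
  have hUA : ∀ a ∈ A, _root_.Cfsg.Agent.KFacts.RgdAut.Fix a U := by
    rintro _ ⟨k, rfl⟩
    have h1 : α ∈ ({
      carrier := {a | _root_.Cfsg.Agent.KFacts.RgdAut.Fix a U}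
      mul_mem' := fun ha hb => ha.mul hb
      one_mem' := fun _ => Iff.rfl
      inv_mem' := fun ha => ha.inv } : Subgroup (MulAut Y)) := hU
    exact Subgroup.zpow_mem _ h1 k
  have hconj : ∀ (a : MulAut Y) (u : Y), a * MulAut.conj u * a⁻¹ = MulAut.conj (a u) := by
    intro a u
    ext x
    rw [MulAut.mul_apply, MulAut.mul_apply, MulAut.conj_apply, map_mul, map_mul, MulAut.apply_inv_self, map_inv,
      MulAut.conj_apply]
  have hN : A ≤ Subgroup.normalizer ((U.map (MulAut.conj : Y →* MulAut Y) : Subgroup (MulAut Y)) : Set (MulAut Y)) := by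
    intro a ha
    rw [Subgroup.mem_normalizer_iff]
    intro b
    constructor
    · rintro ⟨u, hu, rfl⟩
      exact ⟨a u, (hUA a ha u).2 hu, (hconj a u).symm⟩
    · rintro ⟨u, hu, hb⟩
      refine ⟨a⁻¹ u, ((hUA a ha).inv u).2 hu, ?_⟩
      rw [← hconj, hb]
      group
  have hcop : (Nat.card A).Coprime (Nat.card ↥(U.map (MulAut.conj : Y →* MulAut Y))) := by
    rw [hA, Nat.card_zpowers]
    refine Nat.Coprime.coprime_dvd_right (Subgroup.card_map_dvd _ _) ?_
    obtain ⟨k, hk⟩ := IsPGroup.iff_card.1 R.isPGroup_Upos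
    rw [hk]
    exact Nat.Coprime.pow_right k hα
  have hsol : Group.IsSolvable A := by
    have hcyc : IsCyclic A := by rw [hA]; infer_instance
    let _ := IsCyclic.commGroup (α := ↥A)
    exact (inferInstance : Group.IsSolvable ↥A)
  obtain ⟨k, ⟨u, hu, rfl⟩, h1⟩ := exists_smul_fixed A (U.map (MulAut.conj : Y →* MulAut Y)) hN hcop
    (Or.inl hsol) (X := Subgroup Y) (UN cs h X) (by
      intro a ha
      obtain ⟨u, hu, -, -, h3, -, -⟩ := exists_frame R hG (hUA a ha)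
      refine ⟨MulAut.conj u⁻¹, ⟨u⁻¹, inv_mem hu, rfl⟩, ?_⟩
      rw [← smul_eq_iff_fix, mul_smul] at h3
      rw [map_inv, eq_inv_smul_iff]
      exact h3)
  refine ⟨u, hu, ?_⟩
  rw [← smul_eq_iff_fix]
  exact h1 α (Subgroup.mem_zpowers α)

omit R in
theorem conj_conj_apply (g : Y) (α : MulAut Y) (x : Y) :
    (MulAut.conj g * α * (MulAut.conj g)⁻¹) x = g * α (g⁻¹ * x * g) * g⁻¹ := by
  rw [MulAut.mul_apply, MulAut.mul_apply, ← map_inv, MulAut.conj_apply, MulAut.conj_apply, inv_inv]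

omit R in
theorem fix_conj {g : Y} {α : MulAut Y} {V : Subgroup Y} (hV : _root_.Cfsg.Agent.KFacts.RgdAut.Fix α (cj g⁻¹ V)) :
    _root_.Cfsg.Agent.KFacts.RgdAut.Fix (MulAut.conj g * α * (MulAut.conj g)⁻¹) V := by
  intro x
  rw [conj_conj_apply]
  have h1 : g * α (g⁻¹ * x * g) * g⁻¹ ∈ V ↔ α (g⁻¹ * x * g) ∈ cj g⁻¹ V := by
    rw [mem_cj, inv_inv]
  have h2 : g⁻¹ * x * g ∈ cj g⁻¹ V ↔ x ∈ V := by
    rw [mem_cj, inv_inv]
    have e : g * (g⁻¹ * x * g) * g⁻¹ = x := by group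
    rw [e]
  rw [h1, hV, h2]

/-- **The frame.** -/
theorem exists_frame_fix [Finite W] [Finite Y] [Fact p.Prime] (hG : GG cs h T X = ⊤) {α : MulAut Y}
    (hα : (orderOf α).Coprime p) {R' : Subgroup Y} (hp : IsPGroup p R') (hfix : ∀ x ∈ R', α x = x) {c : ℕ}
    (hc : ∀ i, c ≤ Nat.card ↥(X (sr i))) (hR : Nat.card (RGD.Sup X (RGD.Pos cs h)) < Nat.card R' * c) :
    ∃ g : Y, _root_.Cfsg.Agent.KFacts.RgdAut.Fix (MulAut.conj g * α * (MulAut.conj g)⁻¹) (RGD.Sup X (RGD.Pos cs h)) ∧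
      _root_.Cfsg.Agent.KFacts.RgdAut.Fix (MulAut.conj g * α * (MulAut.conj g)⁻¹) (UN cs h X) ∧ cj g R' ≤ RGD.Sup X (RGD.Pos cs h) ∧
      ∀ x ∈ cj g R', (MulAut.conj g * α * (MulAut.conj g)⁻¹) x = x := by
  set U := RGD.Sup X (RGD.Pos cs h) with hUdef
  have hfixg : ∀ g : Y, ∀ x ∈ cj g R', (MulAut.conj g * α * (MulAut.conj g)⁻¹) x = x := by
    intro g x hx
    rw [conj_conj_apply, hfix _ (mem_cj.1 hx)]
    group
  have hord : ∀ g : Y, (orderOf (MulAut.conj g * α * (MulAut.conj g)⁻¹)).Coprime p := by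
    intro g
    have h1 : orderOf (MulAut.conj g * α * (MulAut.conj g)⁻¹) = orderOf α :=
      MulEquiv.orderOf_eq (MulAut.conj (MulAut.conj g)) α
    rw [h1]; exact hα
  -- `R' ≤ U` after conjugation
  obtain ⟨g₁, hg₁⟩ := KFacts.RgdBorelTits.exists_conj_U hG hp R
  set g := g₁⁻¹ with hg
  set R₁ := cj g R' with hR₁
  set α₁ := MulAut.conj g * α * (MulAut.conj g)⁻¹ with hα₁
  have hR₁U : R₁ ≤ U := by
    have h1 := cj_mono g hg₁
    rwa [hg, cj_inv_cj] at h1
  have hR₁c : Nat.card R₁ = Nat.card R' := Nodes.CardSup.card_cj R'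
  have hR₁f := hfixg g
  -- `α₁` fixes `U`
  have hUp : IsPGroup p ↥(U.map α₁.toMonoidHom) := R.isPGroup_Upos.map _
  obtain ⟨s, hs⟩ := KFacts.RgdBorelTits.exists_conj_U hG hUp R
  have hs' : U.map α₁.toMonoidHom = cj s U := by
    apply Subgroup.eq_of_le_of_card_ge hs
    rw [Nodes.CardSup.card_cj, Subgroup.card_map_of_injective α₁.injective]
  have hsB : s ∈ RGD.B cs h T X := by
    by_contra hs0
    obtain ⟨i, hi⟩ := exists_small R hG hs0
    have h1 : R₁ ≤ cj s U := by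
      rw [← hs']
      intro x hx
      exact ⟨x, hR₁U hx, hR₁f x hx⟩
    have h2 : (cj s U).relIndex U * Nat.card R₁ ≤ Nat.card U := by
      have h3 : (cj s U).relIndex U ≤ R₁.relIndex U :=
        Subgroup.relIndex_le_of_le_left h1 Subgroup.index_ne_zero_of_finite
      have h4 : Nat.card R₁ * R₁.relIndex U = Nat.card U := by
        rw [Subgroup.relIndex, ← Subgroup.card_mul_index (R₁.subgroupOf U)]
        congr 1
        exact (Nat.card_congr (Subgroup.subgroupOfEquivOfLe hR₁U).toEquiv).symm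
      calc (cj s U).relIndex U * Nat.card R₁ ≤ R₁.relIndex U * Nat.card R₁ := Nat.mul_le_mul_right _ h3
        _ = Nat.card U := by rw [mul_comm, h4]
    have h3 : c * Nat.card R' ≤ Nat.card U := by
      rw [← hR₁c]
      exact (Nat.mul_le_mul_right _ ((hc i).trans hi)).trans h2
    rw [mul_comm] at h3
    omega
  have hU1 : _root_.Cfsg.Agent.KFacts.RgdAut.Fix α₁ U := by
    rw [fix_iff, hs']
    exact mem_normalizer_iff_cj.1 (R.B_le_normalizer_U hsB)
  -- the opposite group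
  obtain ⟨u, hu, hu'⟩ := exists_opp R hG (hord g) hU1
  have hcu : cj u⁻¹ U = U := cj_eq_of_mem (inv_mem hu)
  have hcu' : cj u U = U := cj_eq_of_mem hu
  have e1 : MulAut.conj u⁻¹ * α₁ * (MulAut.conj u⁻¹)⁻¹ = MulAut.conj (u⁻¹ * g) * α * (MulAut.conj (u⁻¹ * g))⁻¹ := by
    rw [hα₁, map_mul]; group
  refine ⟨u⁻¹ * g, ?_, ?_, ?_, hfixg _⟩
  · rw [← e1]
    apply fix_conj
    rw [inv_inv, hcu']
    exact hU1
  · rw [← e1]
    apply fix_conj
    rw [inv_inv]
    exact hu'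
  · rw [cj_mul, ← hcu]
    exact cj_mono _ hR₁U

/-- `|U| = |X (sr i)| |V_i|` -/
theorem card_U [Finite W] (i : I) : Nat.card (RGD.Sup X (RGD.Pos cs h)) =
    Nat.card (X (sr i)) * Nat.card (RGD.Sup X (RGD.PosNe cs h i)) := by
  refine Nodes.CardSup.card_mul_of_disjoint (RGD.le_Sup (S := RGD.Pos cs h) ⟨isRoot_sr cs h i, sr_nonneg i⟩)
    (KFacts.RgdFixU.V_le_U R i) (fun g hg => KFacts.RgdFixU.exists_mul_V R i hg) ?_
  rw [Subgroup.eq_bot_iff_forall]
  rintro x ⟨h1, h2⟩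
  exact eq_one_of_mem_PosNe R h1 h2

/-- a frame automorphism with trivial permutation fixes `V_i` -/
theorem mem_V [Finite W] {β : MulAut Y} (D : Diag T X β 1) (i : I) {v : Y}
    (hv : v ∈ RGD.Sup X (RGD.PosNe cs h i)) : β v ∈ RGD.Sup X (RGD.PosNe cs h i) := by
  have h1 : RGD.Sup X (RGD.PosNe cs h i) ≤ (RGD.Sup X (RGD.PosNe cs h i)).comap β.toMonoidHom := by
    refine RGD.Sup_le fun x hx y hy => ?_
    refine RGD.le_Sup (S := RGD.PosNe cs h i) hx ?_
    exact (Diag.root_comp R D (fun _ _ => rfl) hx.1 y).2 hy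
  exact h1 hv

/-- **The fixed points in a simple root group.** -/
theorem card_mul_le [Finite W] [Finite Y] {β : MulAut Y} (D : Diag T X β 1) {R₁ : Subgroup Y}
    (hR : R₁ ≤ RGD.Sup X (RGD.Pos cs h)) (hf : ∀ x ∈ R₁, β x = x) (i : I) :
    Nat.card R₁ * Nat.card (X (sr i)) ≤
      Nat.card (RGD.Sup X (RGD.Pos cs h)) * Nat.card ↥(X (sr i) ⊓ H160.PD.Fx β) := by
  set V := RGD.Sup X (RGD.PosNe cs h i) with hV
  have h1 : ∀ x : R₁, ∃ a : ↥(X (sr i) ⊓ H160.PD.Fx β), ∃ v : V, (x : Y) = a * v := by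
    intro x
    obtain ⟨a, ha, v, hv, e⟩ := KFacts.RgdFixU.exists_mul_V R i (hR x.2)
    have h2 := hf x x.2
    rw [e, map_mul] at h2
    have h3 : β a ∈ X (sr i) := (D.pos i a).2 ha
    have h4 : β v ∈ V := mem_V R D i hv
    have h5 : a⁻¹ * β a = v * (β v)⁻¹ := by
      rw [eq_mul_inv_iff_mul_eq, mul_assoc, h2, inv_mul_cancel_left]
    have h6 : a⁻¹ * β a = 1 :=
      eq_one_of_mem_PosNe R (mul_mem (inv_mem ha) h3) (by rw [h5]; exact mul_mem hv (inv_mem h4))
    exact ⟨⟨a, ha, (inv_mul_eq_one.1 h6).symm⟩, ⟨v, hv⟩, e⟩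
  choose f g hfg using h1
  have h2 : Nat.card R₁ ≤ Nat.card ↥(X (sr i) ⊓ H160.PD.Fx β) * Nat.card V := by
    rw [← Nat.card_prod]
    refine Nat.card_le_card_of_injective (fun x => (f x, g x)) ?_
    intro x y hxy
    have h3 : f x = f y := congrArg Prod.fst hxy
    have h4 : g x = g y := congrArg Prod.snd hxy
    apply Subtype.ext
    rw [hfg x, hfg y, h3, h4]
  calc Nat.card R₁ * Nat.card (X (sr i)) ≤ Nat.card ↥(X (sr i) ⊓ H160.PD.Fx β) * Nat.card V * Nat.card (X (sr i)) :=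
        Nat.mul_le_mul_right _ h2
    _ = Nat.card (RGD.Sup X (RGD.Pos cs h)) * Nat.card ↥(X (sr i) ⊓ H160.PD.Fx β) := by
        rw [card_U R i]; ring

end Cfsg.Agent.H699.PD
end

-- part: H699/PD/TwD
section
/-!
# S4246: the fixed points of the automorphisms of `³D₄(q)` of prime order `≠ p` (helper699)

`syl` : `|C(b)|_p q ≤ |³D₄(q)|_p`.
-/

set_option autoImplicit false
set_option linter.unusedSectionVars false

namespace Cfsg.Agent.H699.PD

section Field

variable {F : Type*} [Field F] [Finite F]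

/-- the fixed points of a nontrivial field automorphism -/
theorem card_fix_sq (τ : F ≃+* F) (hτ : τ ≠ 1) : Nat.card {a : F // τ a = a} ^ 2 ≤ Nat.card F := by
  let E : Subfield F := RingHom.eqLocusField (τ : F →+* F) (RingHom.id F)
  have hE : ∀ a, a ∈ E ↔ τ a = a := fun a => Iff.rfl
  have h1 : Nat.card {a : F // τ a = a} = Nat.card E := Nat.card_congr (Equiv.subtypeEquivRight fun a => (hE a).symm)
  have h2 : Nat.card F = Nat.card E ^ Module.finrank E F := Module.natCard_eq_pow_finrank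
  have h3 : 1 < Nat.card E := Finite.one_lt_card
  have h4 : Module.finrank E F ≠ 1 := by
    intro h5
    apply hτ
    have h6 : Nat.card E = Nat.card F := by rw [h2, h5, pow_one]
    have h7 : ((E : Subfield F) : Set F) = Set.univ := by
      apply Set.eq_of_subset_of_ncard_le (Set.subset_univ _)
      rw [Set.ncard_univ, ← h6]
      exact le_of_eq (Nat.card_coe_set_eq _)
    ext a
    have h8 : a ∈ ((E : Subfield F) : Set F) := by rw [h7]; trivial
    exact (hE a).1 h8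
  have h5 : Module.finrank E F ≠ 0 := by
    have : 0 < Module.finrank E F := Module.finrank_pos
    omega
  rw [h1, h2]
  exact Nat.pow_le_pow_right (by omega) (by omega)

variable {Y : Type*} [Group Y] {T P : Subgroup Y} {x : F → Y} {χ : Y → F}

open Cfsg.Agent.KFacts.RgdField in
/-- the fixed points of a semilinear map on a root group -/
theorem card_fix_le (C : Coord T P x χ) {β : MulAut Y} {τ : F ≃+* F} {c : F} (hc : c ≠ 0)
    (hβ : ∀ a, β (x a) = x (c * τ a)) : Nat.card ↥(P ⊓ H160.PD.Fx β) ≤ Nat.card {a : F // τ a = a} := by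
  have : Finite {a : F // τ a = a} := inferInstance
  by_cases h0 : ∃ a₀, a₀ ≠ 0 ∧ c * τ a₀ = a₀
  · obtain ⟨a₀, ha₀, he⟩ := h0
    have key : ∀ y : ↥(P ⊓ H160.PD.Fx β), ∃ a : {a : F // τ a = a}, x (a₀ * a) = y := by
      rintro ⟨y, hy, hyf⟩
      obtain ⟨b, rfl⟩ := (C.mem y).1 hy
      have h1 : c * τ b = b := by
        apply C.inj
        rw [← hβ]
        exact hyf
      refine ⟨⟨a₀⁻¹ * b, ?_⟩, ?_⟩
      · have h2 : τ a₀ ≠ 0 := fun h => ha₀ (by rw [← he, h, mul_zero])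
        rw [map_mul, map_inv₀]
        have h3 : c * τ a₀ * (a₀⁻¹ * b) = c * τ a₀ * ((τ a₀)⁻¹ * τ b) := by
          rw [he, mul_inv_cancel_left₀ ha₀]
          conv_lhs => rw [← h1]
          field_simp
          linear_combination (τ b) * he
        exact (mul_left_cancel₀ (mul_ne_zero hc h2) h3).symm
      · show x (a₀ * (a₀⁻¹ * b)) = x b
        rw [mul_inv_cancel_left₀ ha₀]
    choose f hf using key
    refine Nat.card_le_card_of_injective f fun y z hyz => Subtype.ext ?_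
    rw [← hf y, ← hf z, hyz]
  · push Not at h0
    have h1 : Nat.card ↥(P ⊓ H160.PD.Fx β) = 1 := by
      rw [Subgroup.card_eq_one, Subgroup.eq_bot_iff_forall]
      rintro y ⟨hy, hyf⟩
      obtain ⟨b, rfl⟩ := (C.mem y).1 hy
      have h1 : c * τ b = b := by
        apply C.inj
        rw [← hβ]
        exact hyf
      by_contra hb
      refine h0 b ?_ h1
      rintro rfl
      exact hb C.zero
    rw [h1]
    have : Nonempty {a : F // τ a = a} := ⟨⟨0, map_zero _⟩⟩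
    exact Nat.card_pos

end Field

open CoxeterSystem Cfsg.Agent.ChevalleyStructure.CoxeterGeom Cfsg.Agent.Tits.Roots Cfsg.Agent.Tits.Core
  Cfsg.Agent.Tits.Exchange Cfsg.Agent.Nodes.Reps Cfsg.Agent.Nodes.BNOf Cfsg.Agent.Nodes.StabComb
  Cfsg.Agent.Nodes.Bruhat Cfsg.Agent.Nodes.OppDec Cfsg.Agent.Nodes.RGDTwGen Cfsg.Agent.Nodes.RGDChev
  Cfsg.Agent.Nodes.RGDFold Cfsg.Agent.Nodes.RGDFoldSL
open Cfsg.Agent.KFacts.RgdOpp Cfsg.Agent.KFacts.RgdAut Cfsg.Agent.KFacts.RgdDiag Cfsg.Agent.KFacts.RgdRigid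
  Cfsg.Agent.KFacts.RgdField Cfsg.Agent.KFacts.RgdTau Cfsg.Agent.KFacts.RgdNodes
open Cfsg.Lie Cfsg.Agent.ChevalleyStructure
open Cfsg.Agent.ChevalleyStructure.SL2Hom (up lo)
open Cfsg.Agent.KFacts.TwESix.NodeCoord
open Cfsg.Agent.KFacts.TwESix.Out (tau_eq)
open Cfsg.Agent.Nodes.RGDTwD4 Cfsg.Agent.Nodes.RGDTwNode.D4
open Cfsg.Agent.KFacts.TwDFour.Out
open Cfsg.Agent.H160.PD (v Fx)

universe u

/-- the order of `U` -/
theorem card_U_eq {I W Y : Type*} [Fintype I] [DecidableEq I] [Group W] [Group Y] {M : CoxeterMatrix I}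
    {cs : CoxeterSystem M W} {A : I → I → ℤ} {h : IsCartan M A} {p : ℕ} {T : Subgroup Y} {n : I → Y}
    {X : (I → ℤ) → Subgroup Y} [Finite W] [Finite Y] [hp : Fact p.Prime] (R : RGD cs h p T n X)
    (hG : GG cs h T X = ⊤) : Nat.card (RGD.Sup X (RGD.Pos cs h)) = p ^ v p Y := by
  obtain ⟨k, hk⟩ := IsPGroup.iff_card.1 R.isPGroup_Upos
  have h1 := H851.SimsRgd.index_U R hG
  have h2 := Subgroup.card_mul_index (RGD.Sup X (RGD.Pos cs h))
  have h3 : v p Y = k := by
    rw [v, ← h2, hk, Nat.factorization_mul (pow_ne_zero _ hp.1.ne_zero) Subgroup.index_ne_zero_of_finite,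
      Finsupp.add_apply, Nat.factorization_eq_zero_of_not_dvd h1, hp.1.factorization_pow, Finsupp.single_eq_same,
      add_zero]
  rw [h3, hk]

variable {K : Type u} [Field K] [Fintype K] {q : ℕ}

/-- **The fixed points of the automorphisms of prime order `≠ p`.** -/
theorem syl (hq : IsPrimePow q) (hK : Fintype.card K = q ^ 3) {p f : ℕ} [hp : Fact p.Prime] [CharP K p]
    (hqf : q = p ^ f) {b : MulAut ↥(twistedD4 K q)} (hb : (orderOf b).Prime) (hbp : orderOf b ≠ p) :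
    v p (Fx b) + f ≤ v p ↥(twistedD4 K q) := by
  by_contra hcon
  push Not at hcon
  obtain ⟨φ, hφ⟩ := D4Fixed.exists_frob hq hK
  let cs : CoxeterSystem CoxeterMatrix.G₂ CoxeterMatrix.G₂.Group := CoxeterMatrix.G₂.toCoxeterSystem
  have hfin : Finite CoxeterMatrix.G₂.Group := Cfsg.Agent.Nodes.RGDFold.finite_W (hp := Cfsg.Agent.Nodes.RGDTwD4.hp) cs
    isCartan foldData
  have R := Cfsg.Agent.Nodes.RGDTwD4.rgd cs hK hφ p
  have hG1 : RGD.Sup (X φ q) {x | IsRoot cs isCartan x} = ⊤ := _root_.Cfsg.Agent.Nodes.RGDTwD4.G1_eq_top cs hK hφ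
  have hG := GG_eq_top (T := T K q) hG1
  have hq1 := hq.one_lt
  have hX := H934.RowTwD4.card_X hφ hq1 hK
  have hX0 : Nat.card ↥(X φ q (sr 0)) = q := by rw [hX]; rfl
  have hX1 : Nat.card ↥(X φ q (sr 1)) = q ^ 3 := by rw [hX]; rfl
  -- a Sylow subgroup of the fixed points
  obtain ⟨P⟩ : Nonempty (Sylow p ↥(_root_.Cfsg.Agent.H160.PD.Fx b)) := inferInstance
  set R' := (P : Subgroup ↥(_root_.Cfsg.Agent.H160.PD.Fx b)).map (_root_.Cfsg.Agent.H160.PD.Fx b).subtype with hR'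
  have hR'c : Nat.card R' = p ^ v p (Fx b) := by
    rw [hR', Subgroup.card_map_of_injective (_root_.Cfsg.Agent.H160.PD.Fx b).subtype_injective]
    exact P.card_eq_multiplicity
  have hU := card_U_eq R hG
  have hlt : Nat.card (RGD.Sup (X φ q) (RGD.Pos cs isCartan)) < Nat.card R' * q := by
    rw [hU, hR'c]
    calc p ^ v p ↥(twistedD4 K q) < p ^ (v p (Fx b) + f) := Nat.pow_lt_pow_right hp.1.one_lt hcon
      _ = p ^ v p (Fx b) * q := by rw [pow_add, ← hqf]
  obtain ⟨g, g1, g2, g3, g4⟩ := exists_frame_fix R hG (α := b)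
    ((Nat.coprime_primes hb hp.1).2 hbp) (R' := R') (P.isPGroup'.map _) (by
      rintro x ⟨y, -, rfl⟩
      exact y.2) (c := q) (by
      intro i
      rw [hX]
      split_ifs
      · exact le_rfl
      · exact Nat.le_self_pow (by norm_num) q) hlt
  set β := MulAut.conj g * b * (MulAut.conj g)⁻¹ with hβ
  set R₁ := cj g R' with hR₁
  have hR₁c : Nat.card R₁ = Nat.card R' := Nodes.CardSup.card_cj R'
  rw [← hR₁c] at hlt
  have hβ1 : β = 1 := by
    obtain ⟨σ, D⟩ := exists_diag R hG g1 g2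
    have h2 : σ = 1 := by
      apply perm_G2 σ
      intro h3
      have h4 := Diag.card_eq D 0
      rw [h3] at h4
      exact card_ne hφ hK hq1 h4
    subst h2
    obtain ⟨τ, S⟩ := exists_ntau (coordD hφ hK) D
    have h01 : ∀ a : KD φ 0, (τ 1 (Subfield.inclusion F1_le_F3 a) : K) = (τ 0 a : K) := by
      intro a
      have h1 := tau_eq R (i := (0 : Fin 2)) (mem_X hφ hK 0) (PhiD_wS hφ hK 0) (PhiD_hS hφ hK 0)
        (χ := chD hφ hK 0) (χ' := chD hφ hK 1) (em := Subfield.inclusion F1_le_F3) (chD_hS hφ hK 0)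
        (fun d hd => Subtype.ext (ch01 hφ hK d hd)) D (fun t ht => S.char 0 t ht) (fun t ht => S.char 1 t ht) a
      exact congrArg Subtype.val h1
    obtain ⟨c0, hc0, e0⟩ := NTau.semi (coordD hφ hK) S 0
    obtain ⟨c1, hc1, e1⟩ := NTau.semi (coordD hφ hK) S 1
    have m0 := card_mul_le R D g3 g4 0
    have m1 := card_mul_le R D g3 g4 1
    rw [hX0] at m0
    rw [hX1] at m1
    have hRpos : 0 < Nat.card R₁ := Nat.card_pos
    -- the node `1`
    have k1 : q ^ 2 < Nat.card ↥(X φ q (sr 1) ⊓ _root_.Cfsg.Agent.H160.PD.Fx β) := by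
      by_contra h1
      push Not at h1
      have h2 : Nat.card R₁ * q ^ 3 ≤ Nat.card (RGD.Sup (X φ q) (RGD.Pos cs isCartan)) * q ^ 2 :=
        m1.trans (Nat.mul_le_mul_left _ h1)
      have h3 : Nat.card (RGD.Sup (X φ q) (RGD.Pos cs isCartan)) * q ^ 2 < Nat.card R₁ * q * q ^ 2 :=
        Nat.mul_lt_mul_of_pos_right hlt (by positivity)
      have h4 : Nat.card R₁ * q * q ^ 2 = Nat.card R₁ * q ^ 3 := by ring
      omega
    have hK1 : Nat.card (KD φ 1) = q ^ 3 := by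
      rw [F3_eq_top hK hφ, ← hK, ← Nat.card_eq_fintype_card]
      exact Nat.card_congr Subfield.topEquiv.toEquiv
    have t1 : τ 1 = 1 := by
      by_contra hne
      have h1 := card_fix_sq (τ 1) hne
      have h2 := card_fix_le (coordD hφ hK 1) hc1 e1
      have h3 : (q ^ 2) ^ 2 < q ^ 3 := by
        calc (q ^ 2) ^ 2 < Nat.card ↥(X φ q (sr 1) ⊓ _root_.Cfsg.Agent.H160.PD.Fx β) ^ 2 := Nat.pow_lt_pow_left k1 (by norm_num)
          _ ≤ Nat.card {a : KD φ 1 // τ 1 a = a} ^ 2 := Nat.pow_le_pow_left h2 2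
          _ ≤ Nat.card (KD φ 1) := h1
          _ = q ^ 3 := hK1
      have h4 : q ^ 3 ≤ (q ^ 2) ^ 2 := by
        rw [← pow_mul]
        exact Nat.pow_le_pow_right (by omega) (by norm_num)
      omega
    have t0 : τ 0 = 1 := by
      ext a
      rw [← h01 a, t1]
      rfl
    -- the scalars
    have key : ∀ (i : Fin 2) (c : KD φ i), τ i = 1 → (∀ a, β (PhiD hφ hK i (up a)) = PhiD hφ hK i (up (c * τ i a))) →
        1 < Nat.card ↥(X φ q (sr i) ⊓ _root_.Cfsg.Agent.H160.PD.Fx β) → c = 1 := by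
      intro i c ht he h1
      have : Nontrivial ↥(X φ q (sr i) ⊓ _root_.Cfsg.Agent.H160.PD.Fx β) := Finite.one_lt_card_iff_nontrivial.1 h1
      obtain ⟨⟨y, hy, hyf⟩, hy1⟩ := exists_ne (1 : ↥(X φ q (sr i) ⊓ _root_.Cfsg.Agent.H160.PD.Fx β))
      obtain ⟨a, rfl⟩ := ((coordD hφ hK i).mem y).1 hy
      have h2 : β (PhiD hφ hK i (up a)) = PhiD hφ hK i (up a) := hyf
      rw [he, ht] at h2
      have h3 := (coordD hφ hK i).inj h2
      have h4 : a ≠ 0 := by
        rintro rfl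
        apply hy1
        apply Subtype.ext
        exact (coordD hφ hK i).zero
      have h5 : c * a = 1 * a := by rw [one_mul]; exact h3
      exact mul_right_cancel₀ h4 h5
    have d1 := key 1 c1 t1 e1 (lt_of_le_of_lt (Nat.one_le_pow _ _ (by omega)) k1)
    have d0 := key 0 c0 t0 e0 (by
      by_contra h1
      push Not at h1
      have h2 : Nat.card R₁ * q ≤ Nat.card (RGD.Sup (X φ q) (RGD.Pos cs isCartan)) * 1 :=
        m0.trans (Nat.mul_le_mul_left _ h1)
      omega)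
    apply Diag.eq_one R hG1 D
    intro i y hy
    obtain ⟨a, rfl⟩ := ((coordD hφ hK i).mem y).1 hy
    fin_cases i
    · show β (PhiD hφ hK 0 (up a)) = PhiD hφ hK 0 (up a)
      rw [e0, d0, t0, one_mul]
      rfl
    · show β (PhiD hφ hK 1 (up a)) = PhiD hφ hK 1 (up a)
      rw [e1, d1, t1, one_mul]
      rfl
  have hb1 : b = 1 := by
    have h1 : b = (MulAut.conj g)⁻¹ * β * MulAut.conj g := by rw [hβ]; group
    rw [h1, hβ1]; group
  rw [hb1, orderOf_one] at hb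
  exact Nat.not_prime_one hb

end Cfsg.Agent.H699.PD
end

-- part: H699/PD/TwDBT
section
/-!
# S4246: no element of order `p` of `³D₄(q)`, `q` odd, centralises a Sylow `2`-subgroup (helper699)
-/

set_option autoImplicit false
set_option linter.unusedSectionVars false

namespace Cfsg.Agent.H699.PD

open CoxeterSystem Cfsg.Agent.ChevalleyStructure.CoxeterGeom Cfsg.Agent.Tits.Roots Cfsg.Agent.Tits.Core
  Cfsg.Agent.Tits.Exchange Cfsg.Agent.Nodes.Reps Cfsg.Agent.Nodes.BNOf Cfsg.Agent.Nodes.StabComb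
  Cfsg.Agent.Nodes.Bruhat Cfsg.Agent.Nodes.OppDec Cfsg.Agent.Nodes.LeviDec
open Cfsg.Lie Cfsg.Agent.ChevalleyStructure
open Cfsg.Agent.Nodes.RGDTwD4
open Cfsg.Agent.H160.PD (v Fx)

universe u

theorem v_lt {S : Type*} [Group S] [Finite S] {P C : Subgroup S} (h2 : 2 ∣ P.index) (hC : Nat.card C ∣ Nat.card P) :
    v 2 C < v 2 S := by
  have h1 : v 2 C ≤ v 2 P := (Nat.factorization_le_iff_dvd Nat.card_pos.ne' Nat.card_pos.ne').2 hC 2
  have h3 : v 2 S = v 2 P + P.index.factorization 2 := by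
    rw [v, v, ← Subgroup.card_mul_index P, Nat.factorization_mul Nat.card_pos.ne' Subgroup.index_ne_zero_of_finite,
      Finsupp.add_apply]
  have h4 : 1 ≤ P.index.factorization 2 :=
    (Nat.prime_two.dvd_iff_one_le_factorization Subgroup.index_ne_zero_of_finite).1 h2
  omega

/-- the indices -/
theorem even_index {q i x : ℕ} (hq : 1 < q) (hodd : Odd q) (hx : x = q ∨ x = q ^ 3)
    (h : i * (x + 1) * ((q ^ 3 - 1) * (q - 1)) = (q ^ 2 - 1) * (q ^ 6 - 1) * (q ^ 8 + q ^ 4 + 1)) : 2 ∣ i := by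
  obtain ⟨y, rfl⟩ : ∃ y, q = y + 1 := ⟨q - 1, by omega⟩
  have hy : 0 < y := by omega
  have e0 : y + 1 - 1 = y := by omega
  have e1 : (y + 1) ^ 2 - 1 = y * (y + 2) := by apply Nat.sub_eq_of_eq_add; ring
  have e2 : (y + 1) ^ 3 - 1 = y * (y ^ 2 + 3 * y + 3) := by apply Nat.sub_eq_of_eq_add; ring
  have e3 : (y + 1) ^ 6 - 1 = y * (y ^ 2 + 3 * y + 3) * ((y + 1) ^ 3 + 1) := by apply Nat.sub_eq_of_eq_add; ring
  rw [e0, e1, e2, e3] at h
  have hpos : 0 < y * (y ^ 2 + 3 * y + 3) * y := by positivity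
  have he : Even (y + 2) := by
    rcases hodd with ⟨m, hm⟩
    exact ⟨m + 1, by omega⟩
  rcases hx with rfl | rfl
  · have h1 : i = ((y + 1) ^ 3 + 1) * ((y + 1) ^ 8 + (y + 1) ^ 4 + 1) := by
      apply Nat.eq_of_mul_eq_mul_right (show 0 < (y + 1 + 1) * (y * (y ^ 2 + 3 * y + 3) * y) by positivity)
      calc i * ((y + 1 + 1) * (y * (y ^ 2 + 3 * y + 3) * y)) = i * (y + 1 + 1) * (y * (y ^ 2 + 3 * y + 3) * y) := by ring
        _ = _ := by rw [h]; ring
    have h2 : Even ((y + 1) ^ 3 + 1) := (hodd.pow).add_one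
    rw [h1]
    exact (even_iff_two_dvd.1 h2).mul_right _
  · have h1 : i = (y + 2) * ((y + 1) ^ 8 + (y + 1) ^ 4 + 1) := by
      apply Nat.eq_of_mul_eq_mul_right (show 0 < ((y + 1) ^ 3 + 1) * (y * (y ^ 2 + 3 * y + 3) * y) by positivity)
      calc i * (((y + 1) ^ 3 + 1) * (y * (y ^ 2 + 3 * y + 3) * y)) =
          i * ((y + 1) ^ 3 + 1) * (y * (y ^ 2 + 3 * y + 3) * y) := by ring
        _ = _ := by rw [h]; ring
    rw [h1]
    exact (even_iff_two_dvd.1 he).mul_right _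

variable {K : Type u} [Field K] [Fintype K] {q : ℕ}

/-- **No element of order `p` centralises a Sylow `2`-subgroup.** -/
theorem bt (hq : IsPrimePow q) (hK : Fintype.card K = q ^ 3) {p f : ℕ} [hp : Fact p.Prime] [CharP K p]
    (hqf : q = p ^ f) (hf : f ≠ 0) (hp2 : p ≠ 2) {y : ↥(twistedD4 K q)} (hy : orderOf y = p) :
    v 2 (Subgroup.centralizer {y}) < v 2 ↥(twistedD4 K q) := by
  obtain ⟨φ, hφ⟩ := D4Fixed.exists_frob hq hK
  let cs : CoxeterSystem CoxeterMatrix.G₂ CoxeterMatrix.G₂.Group := CoxeterMatrix.G₂.toCoxeterSystem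
  have hfin : Finite CoxeterMatrix.G₂.Group := Cfsg.Agent.Nodes.RGDFold.finite_W (hp := Cfsg.Agent.Nodes.RGDTwD4.hp) cs
    isCartan foldData
  have R := Cfsg.Agent.Nodes.RGDTwD4.rgd cs hK hφ p
  have hG1 : Nodes.RGDLib.G1 cs isCartan (X φ q) = ⊤ := G1_eq_top cs hK hφ
  have hG : GG cs isCartan (T K q) (X φ q) = ⊤ := KFacts.RgdFilt.GG_eq_top hG1
  have hq1 := hq.one_lt
  have hX := H934.RowTwD4.card_X hφ hq1 hK
  have hF := KFacts.RgdFiltTwAll.filt_fold cs isCartan foldData (foldGrp hφ (D4Fixed.twisted_le_fix hK hφ)) p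
  have hodd : Odd q := by rw [hqf]; exact (hp.1.odd_of_ne_two hp2).pow
  have hpg : IsPGroup p ↥(Subgroup.zpowers y) :=
    IsPGroup.of_card (n := 1) (by rw [Nat.card_zpowers, hy, pow_one])
  have hne : Subgroup.zpowers y ≠ ⊥ := by
    intro h1
    have h2 : y = 1 := by rwa [Subgroup.zpowers_eq_bot] at h1
    rw [h2, orderOf_one] at hy
    exact hp.1.one_lt.ne hy
  obtain ⟨g, J, hJ, -, hN⟩ := KFacts.RgdFilt.borel_tits_of_filt hF hG1 hpg hne
  -- a maximal parabolic subgroup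
  obtain ⟨i, hi⟩ : ∃ i : Fin 2, J ⊆ {i} := by
    by_contra hcon
    push Not at hcon
    apply hJ
    rw [Set.eq_univ_iff_forall]
    intro j
    by_contra hj
    obtain ⟨k, hk, hk'⟩ := Set.not_subset.1 (hcon (1 - j))
    apply hk'
    rw [Set.mem_singleton_iff]
    have : k ≠ j := fun h => hj (h ▸ hk)
    fin_cases j <;> fin_cases k <;> first | rfl | exact absurd rfl this
  have hPJ := H851.SimsRgd.PJ_mono R hi
  have hle : Subgroup.centralizer ({y} : Set ↥(twistedD4 K q)) ≤ cj g (PJ cs isCartan (T K q) (X φ q) {i}) := by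
    refine le_trans ?_ (hN.trans (cj_mono g hPJ))
    refine le_trans ?_ (Subgroup.centralizer_le_normalizer _)
    intro z hz
    rw [Subgroup.mem_centralizer_iff]
    rintro _ ⟨k, rfl⟩
    exact ((Commute.zpow_right (show Commute z y from Subgroup.mem_centralizer_singleton_iff.1 hz) k).symm).eq
  have hcard : Nat.card ↥(Subgroup.centralizer ({y} : Set ↥(twistedD4 K q))) ∣
      Nat.card ↥(PJ cs isCartan (T K q) (X φ q) {i}) := by
    rw [← Nodes.CardSup.card_cj (g := g) (PJ cs isCartan (T K q) (X φ q) {i})]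
    exact Subgroup.card_dvd_of_le hle
  refine v_lt ?_ hcard
  have hN' := H115.HC.Two.card_PJ R i
  have hT := H69.OutTwD4.card_T hq hK
  have hpq : p ∣ q := by rw [hqf]; exact dvd_pow_self p hf
  have hsub : ∀ k, k ≠ 0 → ¬ p ∣ q ^ k - 1 := by
    intro k hk h3
    have h4 : p ∣ q ^ k := dvd_pow hpq hk
    have h5 : 1 ≤ q ^ k := Nat.one_le_pow _ _ (by omega)
    have h6 := Nat.dvd_sub h4 h3
    rw [Nat.sub_sub_self h5] at h6
    exact hp.1.one_lt.ne' (Nat.dvd_one.1 h6)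
  have hP : ¬ p ∣ (q ^ 2 - 1) * (q ^ 6 - 1) * (q ^ 8 + q ^ 4 + 1) := by
    rw [hp.1.dvd_mul, hp.1.dvd_mul]
    rintro ((h3 | h3) | h3)
    · exact hsub 2 (by norm_num) h3
    · exact hsub 6 (by norm_num) h3
    · have h4 : p ∣ q ^ 8 + q ^ 4 := dvd_add (dvd_pow hpq (by norm_num)) (dvd_pow hpq (by norm_num))
      exact hp.1.one_lt.ne' (Nat.dvd_one.1 ((Nat.dvd_add_right h4).1 h3))
  have h6 := H35.ExcIdx.index_eq R hG hN' (d := 1) (fun h => hp.1.one_lt.ne' (Nat.dvd_one.1 h))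
    (t := (q ^ 3 - 1) * (q - 1)) (by rw [one_mul, hT])
    (P := (q ^ 2 - 1) * (q ^ 6 - 1) * (q ^ 8 + q ^ 4 + 1)) (b := f * 12) (by
      rw [one_mul, S1067.result hq hK, pow_mul, ← hqf]
      ring) hP
  refine even_index hq1 hodd ?_ h6
  rw [hX]
  split_ifs
  · exact Or.inl rfl
  · exact Or.inr rfl

end Cfsg.Agent.H699.PD
end

private theorem dce_e37c88add6c7 : _root_.True := by
  try have : _root_.True := by simp only [_root_.Cfsg.Agent.H160.PD.v.eq_1]
  exact _root_.True.intro
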